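import Cfsg.Agent.H192.Af.Defs
import Cfsg.Agent.Lib.MinNormal

/-!
# S5731, AF2: minimal non-abelian normal subgroups
-/

set_option autoImplicit false

namespace Cfsg.Agent.H813.Af

open Subgroup Cfsg.Agent.H192.Af

universe v

variable {H : Type v} [Group H] [Finite H]

theorem minNA_type {M : Subgroup H} (hM : MinNA M) :
    (∃ r : ℕ, r.Prime ∧ ∀ m : M, m ^ r ∈ Subgroup.center M ∧ ∀ m' : M, m * m' * m⁻¹ * m'⁻¹ ∈ Subgroup.center M) ∨
    (commutator M = ⊤ ∧ ∃ (T : Type v) (_ : Group T) (_ : Finite T) (s : ℕ), IsSimpleGroup T ∧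
      ¬ IsMulCommutative T ∧ 0 < s ∧ Nonempty (M ⧸ Subgroup.center M ≃* (Fin s → T))) := by
  classical
  have hMn := hM.normal
  obtain ⟨Z, hZ⟩ : ∃ Z : Subgroup H, Z = (center M).map M.subtype := ⟨_, rfl⟩
  have hZn : Z.Normal := by rw [hZ]; infer_instance
  have hmemZ : ∀ x : M, (x : H) ∈ Z ↔ x ∈ center M := by
    intro x
    rw [hZ, mem_map]
    constructor
    · rintro ⟨y, hy, hyx⟩
      have : y = x := Subtype.ext hyx
      rwa [← this]
    · intro h
      exact ⟨x, h, rfl⟩
  have hZM : Z ≤ M := by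
    rw [hZ]
    exact map_subtype_le _
  obtain ⟨φ, hφ⟩ : ∃ φ : M →* H ⧸ Z, φ = (QuotientGroup.mk' Z).comp M.subtype := ⟨_, rfl⟩
  have hker : φ.ker = center M := by
    ext x
    rw [MonoidHom.mem_ker, hφ]
    show ((x : H) : H ⧸ Z) = 1 ↔ _
    rw [QuotientGroup.eq_one_iff]
    exact hmemZ x
  have hrange : φ.range = M.map (QuotientGroup.mk' Z) := by
    rw [hφ, MonoidHom.range_comp, range_subtype]
  have hNn : (M.map (QuotientGroup.mk' Z)).Normal := hMn.map _ (QuotientGroup.mk'_surjective Z)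
  have hN : M.map (QuotientGroup.mk' Z) ≠ ⊥ := by
    intro h
    apply hM.nonab
    refine ⟨⟨fun a b => ?_⟩⟩
    have h1 : a ∈ center M := by
      rw [← hker, MonoidHom.mem_ker]
      have : φ a ∈ φ.range := ⟨a, rfl⟩
      rw [hrange, h, mem_bot] at this
      exact this
    exact ((mem_center_iff.1 h1) b).symm
  have hmin : ∀ K' : Subgroup (H ⧸ Z), K'.Normal → K' ≤ M.map (QuotientGroup.mk' Z) →
      K' = ⊥ ∨ K' = M.map (QuotientGroup.mk' Z) := by
    intro K' hK'n hK'
    have hKM : K'.comap (QuotientGroup.mk' Z) ≤ M := by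
      intro x hx
      obtain ⟨m, hm, hmx⟩ := hK' (mem_comap.1 hx)
      have h1 : m⁻¹ * x ∈ Z := QuotientGroup.eq.1 hmx
      have := M.mul_mem hm (hZM h1)
      rwa [mul_inv_cancel_left] at this
    have hback : K' = (K'.comap (QuotientGroup.mk' Z)).map (QuotientGroup.mk' Z) :=
      (map_comap_eq_self_of_surjective (QuotientGroup.mk'_surjective Z) K').symm
    rcases lt_or_eq_of_le hKM with h | h
    · left
      rw [eq_bot_iff, hback]
      rintro _ ⟨x, hx, rfl⟩
      rw [mem_bot]
      show ((x : H) : H ⧸ Z) = 1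
      rw [QuotientGroup.eq_one_iff]
      rw [show x = ((⟨x, hKM hx⟩ : M) : H) from rfl, hmemZ, mem_center_iff]
      intro g
      exact Subtype.ext (hM.min _ (hK'n.comap _) h x hx g g.2).symm
    · right
      rw [hback, h]
  obtain ⟨T, s, -, hTs, hs, ⟨e⟩⟩ := Cfsg.Agent.Lib.MinNormal.exists_mulEquiv_pi _ hN hmin
  obtain ⟨E⟩ : Nonempty (M ⧸ center M ≃* (Fin s → T)) :=
    ⟨((QuotientGroup.quotientMulEquivOfEq hker).symm.trans (QuotientGroup.quotientKerEquivRange φ)).trans
      ((MulEquiv.subgroupCongr hrange).trans e)⟩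
  by_cases hT : IsMulCommutative T
  · left
    have hprime : (Nat.card T).Prime := by
      let _ : CommGroup T := { (inferInstance : Group T) with mul_comm := hT.is_comm.comm }
      exact IsSimpleGroup.prime_card
    refine ⟨Nat.card T, hprime, fun m => ⟨?_, fun m' => ?_⟩⟩
    · rw [← QuotientGroup.eq_one_iff]
      apply E.injective
      rw [map_one, QuotientGroup.mk_pow, map_pow]
      funext i
      exact pow_card_eq_one'
    · rw [← QuotientGroup.eq_one_iff]
      apply E.injective
      rw [map_one, QuotientGroup.mk_mul, QuotientGroup.mk_mul, QuotientGroup.mk_mul, QuotientGroup.mk_inv,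
        QuotientGroup.mk_inv, map_mul, map_mul, map_mul, map_inv, map_inv]
      funext i
      show E m i * E m' i * (E m i)⁻¹ * (E m' i)⁻¹ = 1
      rw [hT.is_comm.comm (E m i) (E m' i)]
      group
  · right
    refine ⟨?_, T, inferInstance, inferInstance, s, hTs, hT, hs, ⟨E⟩⟩
    obtain ⟨D, hD⟩ : ∃ D : Subgroup H, D = (commutator M).map M.subtype := ⟨_, rfl⟩
    have hDn : D.Normal := by rw [hD]; infer_instance
    have hDM : D ≤ M := by rw [hD]; exact map_subtype_le _
    rcases lt_or_eq_of_le hDM with h | h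
    · exfalso
      apply hT
      have h1 : ∀ a b : M, a * b * a⁻¹ * b⁻¹ ∈ center M := by
        intro a b
        rw [mem_center_iff]
        intro g
        have h2 : ((a * b * a⁻¹ * b⁻¹ : M) : H) ∈ D := by
          rw [hD]
          refine ⟨a * b * a⁻¹ * b⁻¹, ?_, rfl⟩
          rw [_root_.commutator_def]
          exact commutator_mem_commutator (mem_top a) (mem_top b)
        exact Subtype.ext (hM.min D hDn h _ h2 g g.2).symm
      refine ⟨⟨fun a b => ?_⟩⟩
      obtain ⟨x, hx⟩ := E.surjective (fun _ => a)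
      obtain ⟨y, hy⟩ := E.surjective (fun _ => b)
      obtain ⟨x, rfl⟩ := QuotientGroup.mk_surjective x
      obtain ⟨y, rfl⟩ := QuotientGroup.mk_surjective y
      have h3 := (QuotientGroup.eq_one_iff (N := center M) _).2 (h1 x y)
      rw [QuotientGroup.mk_mul, QuotientGroup.mk_mul, QuotientGroup.mk_mul, QuotientGroup.mk_inv,
        QuotientGroup.mk_inv] at h3
      have h4 := congrArg E h3
      rw [map_mul, map_mul, map_mul, map_inv, map_inv, map_one, hx, hy] at h4
      have h5 : a * b * a⁻¹ * b⁻¹ = 1 := congrFun h4 ⟨0, hs⟩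
      calc a * b = (a * b * a⁻¹ * b⁻¹) * (b * a) := by group
        _ = b * a := by rw [h5, one_mul]
    · rw [eq_top_iff]
      intro x _
      have h1 : (x : H) ∈ D := by rw [h]; exact x.2
      rw [hD] at h1
      obtain ⟨y, hy, hyx⟩ := h1
      have : y = x := Subtype.ext hyx
      rwa [← this]

end Cfsg.Agent.H813.Af
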